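import Mathlib
import Cfsg.Agent.OddHalf.NI3.FrameDef
import Cfsg.Agent.OddHalf.NI.Blocks
import Cfsg.Agent.OddHalf.NI.ClsFrame
import Cfsg.Agent.OddHalf.NI.CoverFrame
import Cfsg.Agent.OddHalf.NI.ExcEnd
import Cfsg.Agent.OddHalf.NI.SUOdd
import Cfsg.Agent.OddHalf.NI.ClosedSL
import Cfsg.Agent.OddHalf.NI.CoverOf
import Cfsg.Agent.OddHalf.NI.FrameSU
import Cfsg.Agent.OddHalf.NI.SUClosed
import Cfsg.Agent.OddHalf.NI.FrameSp
import Cfsg.Agent.OddHalf.NI.OmegaSheet
import Cfsg.Agent.OddHalf.NI.OmegaRows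
import Cfsg.Agent.OddHalf.NI.OmegaPlusRow
import Cfsg.Agent.OddHalf.NI.FrameFactOf
import Cfsg.Agent.OddHalf.NI3.Card81

-- merged: Cfsg.Agent.OddHalf.NI3.Fr.Core
section

/-!
# (T'_3): frames with members `SL₂(3)` (port of NI/Blocks, NI/ClsFrame, NI/CoverFrame to the field with three elements)

* `sl3` : `SL₂(F) ≃ SL₂(ℤ/3)` for `|F| = 3`;
* `blocks_frame`, `frame_of_cls`, `frame_of_mem`, `frame_of_cover`.
-/

set_option autoImplicit false
set_option linter.unusedSectionVars false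
set_option linter.dupNamespace false
set_option linter.style.haveILetI false

namespace Cfsg.Agent.OddHalf.NI3.Fr

open Subgroup Cfsg
open Cfsg.Agent.OddHalf.NI

/-- `SL₂(F) ≃ SL₂(ℤ/3)` for `|F| = 3` -/
noncomputable def sl3 {F : Type*} [Field F] [Fintype F] (h : Fintype.card F = 3) :
    Matrix.SpecialLinearGroup (Fin 2) F ≃* Matrix.SpecialLinearGroup (Fin 2) (ZMod 3) :=
  let φ : ZMod 3 ≃+* F := ZMod.ringEquivOfPrime F Nat.prime_three h
  { toFun := fun x => Matrix.SpecialLinearGroup.map φ.symm.toRingHom x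
    invFun := fun x => Matrix.SpecialLinearGroup.map φ.toRingHom x
    left_inv := fun x => by
      refine Matrix.SpecialLinearGroup.ext _ _ fun i j => ?_
      exact φ.apply_symm_apply (x.1 i j)
    right_inv := fun x => by
      refine Matrix.SpecialLinearGroup.ext _ _ fun i j => ?_
      exact φ.symm_apply_apply (x.1 i j)
    map_mul' := fun x y => map_mul _ x y }

section Blk

open Blocks

variable {M N : Type*} [Group M] [Group N] {F : Type} [Field F] {m : ℕ} {c : M}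

/-- **the frame of the image of a group with blocks** -/
theorem blocks_frame [Fintype F] (B : Blocks M F m c) (hm : 0 < m) (hodd : Odd (Fintype.card F))
    (h3 : Fintype.card F = 3) (φ : M →* N) (hs : Function.Surjective φ) (hk : φ.ker ≤ center M)
    (hc : φ c ≠ 1) : Nonempty (Frame3 N (φ c)) := by
  have h2 := two_ne_zero_of_odd hodd
  have hinj := B.injective φ hk
  have hyy : ∀ i, B.e i (negOne F) * B.e i (negOne F) = 1 := fun i => by rw [← map_mul, negOne_mul, map_one]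
  refine ⟨{
    m := m
    pos := hm
    J := fun i => (φ.comp (B.e i)).range
    y := fun i => φ (B.e i (negOne F))
    iso := fun i => ⟨(MonoidHom.ofInjective (hinj i)).symm.trans (sl3 h3)⟩
    mem := fun i => ⟨negOne F, rfl⟩
    ord := fun i => by
      have := orderOf_injective (φ.comp (B.e i)) (hinj i) (negOne F)
      rw [orderOf_negOne h2] at this
      exact this
    le := ?_
    sub := fun i => B.subnormal φ hs hk i
    comm := ?_
    inj := ?_
    three := ?_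
    gen := ?_ }⟩
  · rintro i _ ⟨a, rfl⟩
    rw [mem_centralizer_singleton_iff]
    simp only [MonoidHom.comp_apply]
    rw [← map_mul, ← map_mul, ← map_mul, ← map_mul]
    congr 2
    apply Subtype.ext
    simp
  · rintro i j hij _ ⟨a, rfl⟩ _ ⟨b, rfl⟩
    simp only [MonoidHom.comp_apply]
    rw [← map_mul, ← map_mul, B.comm i j hij]
  · intro i j hij
    by_contra hne
    apply hc
    simp only at hij
    have h1 : φ (B.e i (negOne F) * B.e j (negOne F)) = 1 := by
      rw [map_mul, hij, ← map_mul, hyy, map_one]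
    rw [← B.two i j hne (hk (MonoidHom.mem_ker.mpr h1)), h1]
  · intro i j k hij hik hjk h
    apply hc
    have h1 : φ (B.e i (negOne F) * B.e j (negOne F) * B.e k (negOne F)) = 1 := by
      rw [map_mul, map_mul, h, ← map_mul, hyy, map_one]
    rw [← B.three i j k hij hik hjk (hk (MonoidHom.mem_ker.mpr h1)), h1]
  · have h1 : φ c ∈ (closure (Set.range fun i => B.e i (negOne F))).map φ := mem_map_of_mem φ B.gen
    rw [MonoidHom.map_closure] at h1
    convert h1 using 2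
    ext x
    constructor
    · rintro ⟨i, rfl⟩
      exact ⟨_, ⟨i, rfl⟩, rfl⟩
    · rintro ⟨_, ⟨i, rfl⟩, rfl⟩
      exact ⟨i, rfl⟩

end Blk

section ClsF

open CoxeterSystem Cfsg.Agent.ChevalleyStructure.CoxeterGeom Cfsg.Agent.Tits.Roots Cfsg.Agent.Tits.Core
  Cfsg.Agent.Tits.RootComb Cfsg.Agent.Nodes.Comb Cfsg.Agent.Nodes.Reps Cfsg.Agent.Nodes.BNOf
  Cfsg.Agent.Nodes.RGDLib Cfsg.Agent.Nodes.Chart Cfsg.Agent.Nodes.Coroot Cfsg.Agent.Nodes.Perp
  Cfsg.Agent.Nodes.ZRel Cfsg.Agent.Nodes.Bruhat Cfsg.Agent.OddHalf.NI.FrameMin Cfsg.Agent.OddHalf.NI.ClsFrame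

variable {I W Y : Type*} [Fintype I] [DecidableEq I] [Group W] [Fintype W] [Group Y] {M : CoxeterMatrix I}
  {cs : CoxeterSystem M W} {A : I → I → ℤ} {h : IsCartan M A} {p : ℕ} {T : Subgroup Y} {n : I → Y}
  {X : (I → ℤ) → Subgroup Y} {R : Set (I → ℤ)} {Z : (I → ℤ) → Subgroup Y} {z : (I → ℤ) → Y}

variable (C : Cls cs h p T n X R Z z) (tr : ∀ r ∈ R, ∀ s ∈ R, ∃ w, s = rep cs h w r)

include C tr

/-- **The frame of a `Cls`**: any nontrivial element of `⟨z r : r ∈ R⟩` lies in a frame. -/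
theorem frame_of_cls (hp : p.Prime) (hp2 : p ≠ 2) (hG : G1 cs h X = ⊤) {F : Type} [Field F] [Fintype F]
    (ho : Odd (Fintype.card F)) (hc : Fintype.card F = 3)
    (sl : ∀ r ∈ R, Nonempty (Matrix.SpecialLinearGroup (Fin 2) F ≃* ↥(Z r ⊔ Z (-r))))
    {z₀ : Y} (h0 : z₀ ∈ Subgroup.closure (z '' R)) (h1 : z₀ ≠ 1) : Nonempty (Frame3 Y z₀) := by
  classical
  have hG' : GG cs h T X = ⊤ := by
    rw [eq_top_iff, ← hG]
    exact le_sup_right
  obtain ⟨r₀, hr₀, hz₀⟩ := ClsFrame.exists_z_ne h0 h1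
  have hz1 : ∀ r ∈ R, z r ≠ 1 := fun r hr => z_ne C tr hr₀ hz₀ hr
  obtain ⟨S, hne, hSR, horth, hind, -, hgen⟩ := exists_family C hp hp2 (uniq C ho sl hz1) (len C tr) h0 h1
  let e : Fin S.card ≃ S := S.equivFin.symm
  have hR : ∀ i, (e i : I → ℤ) ∈ R := fun i => hSR _ (e i).2
  have hdist : ∀ r ∈ S, ∀ s ∈ S, r ≠ s → z r ≠ z s := by
    intro r hr s hs hrs h2
    apply hind r hr
    rw [h2]
    exact Subgroup.subset_closure ⟨s, ⟨hs, fun h3 => hrs (Set.mem_singleton_iff.1 h3).symm⟩, rfl⟩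
  have hthree : ∀ r ∈ S, ∀ s ∈ S, ∀ t ∈ S, r ≠ t → s ≠ t → z r * z s ≠ z t := by
    intro r hr s hs t ht hrt hst h2
    apply hind t ht
    rw [← h2]
    exact mul_mem (Subgroup.subset_closure ⟨r, ⟨hr, fun h3 => hrt (Set.mem_singleton_iff.1 h3)⟩, rfl⟩)
      (Subgroup.subset_closure ⟨s, ⟨hs, fun h3 => hst (Set.mem_singleton_iff.1 h3)⟩, rfl⟩)
  have hval : ∀ i j, i ≠ j → (e i : I → ℤ) ≠ e j := fun i j hij h2 => hij (e.injective (Subtype.ext h2))
  refine ⟨{ m := S.card, pos := hne.card_pos, J := fun i => Z (e i) ⊔ Z (-(e i : I → ℤ)),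
            y := fun i => z (e i), iso := ?_, mem := ?_, ord := ?_, le := ?_,
            sub := ?_, comm := ?_, inj := ?_, three := ?_, gen := ?_ }⟩
  · intro i
    obtain ⟨φ⟩ := sl _ (hR i)
    exact ⟨φ.symm.trans (sl3 hc)⟩
  · exact fun i => C.z_mem _ (hR i)
  · intro i
    refine orderOf_eq_prime ?_ (hz1 _ (hR i))
    rw [pow_two]; exact C.z_sq _ (hR i)
  · exact fun i => ClsFrame.le_centralizer C (hR i)
  · exact fun i => subnormal C (hp.odd_of_ne_two hp2) hG' (hR i)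
  · intro i j hij
    exact (cm_iff C hp hp2 (hR i) (hR j)).2 (horth _ (e i).2 _ (e j).2 (hval i j hij))
  · intro i j hij
    by_contra h2
    exact hdist _ (e i).2 _ (e j).2 (hval i j h2) hij
  · intro i j k _ hik hjk
    exact hthree _ (e i).2 _ (e j).2 _ (e k).2 (hval i k hik) (hval j k hjk)
  · refine Subgroup.closure_mono ?_ hgen
    rintro _ ⟨r, hr, rfl⟩
    exact ⟨e.symm ⟨r, hr⟩, by simp⟩

end ClsF

section Cov

open CoxeterSystem Cfsg.Agent.ChevalleyStructure.CoxeterGeom Cfsg.Agent.Tits.Roots Cfsg.Agent.Tits.Core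
  Cfsg.Agent.Tits.RootComb Cfsg.Agent.Nodes.Comb Cfsg.Agent.Nodes.Reps Cfsg.Agent.Nodes.BNOf
  Cfsg.Agent.Nodes.RGDLib Cfsg.Agent.Nodes.Chart Cfsg.Agent.Nodes.RGDLift Cfsg.Agent.OddHalf.NI.CoverFrame
open Matrix (SpecialLinearGroup)

section Main

variable {I W L M N : Type*} [Fintype I] [DecidableEq I] [Group W] [Fintype W] [Group L] [Group M] [Finite M]
  [Group N] {Mx : CoxeterMatrix I}
  {cs : CoxeterSystem Mx W} {A : I → I → ℤ} {h : IsCartan Mx A} {p : ℕ} {T : Subgroup L} {n : I → L}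
  {X : (I → ℤ) → Subgroup L} {R : Set (I → ℤ)} {Z : (I → ℤ) → Subgroup L} {z : (I → ℤ) → L}

variable (C : Cls cs h p T n X R Z z) (tr : ∀ r ∈ R, ∀ s ∈ R, ∃ w, s = rep cs h w r)
  (hp : p.Prime) (hp2 : p ≠ 2)
  {F : Type} [Field F] [Fintype F] (ho : Odd (Fintype.card F)) (hc : Fintype.card F = 3)
  (sl : ∀ r ∈ R, Nonempty (SpecialLinearGroup (Fin 2) F ≃* ↥(Z r ⊔ Z (-r))))
  {α : M →* L} (hα : Function.Surjective α) (hαc : α.ker ≤ Subgroup.center M) (hα2 : IsPGroup 2 α.ker)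
  (hM : G1 cs h (fun x => lft p α (X x)) = ⊤)
  {φ : M →* N} (hφ : Function.Surjective φ) (hφc : φ.ker ≤ Subgroup.center M)

include C tr hp hp2 ho hc sl hα hαc hα2 hM hφ hφc

/-- **Frames in covers, first form.** There are lifts `z_M r` with `z_M r ∈ ⟨Z̃ r, Z̃ (-r)⟩` such that `N` has a frame for
every nontrivial `φ m`, `m ∈ ⟨z_M r : r ∈ R⟩`. -/
theorem frame_of_mem {nM : I → M} (hn : ∀ i, α (nM i) = n i) :
    ∃ zM : (I → ℤ) → M, Cls cs h p (T.comap α) nM (fun x => lft p α (X x)) R (fun x => lft p α (Z x)) zM ∧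
      (∀ r ∈ R, α (zM r) = z r) ∧
      ∀ m ∈ Subgroup.closure (zM '' R), φ m ≠ 1 → Nonempty (Frame3 N (φ m)) := by
  haveI : Fact p.Prime := ⟨hp⟩
  have hF : (2 : F) ≠ 0 := LongSL.two_ne_of_odd ho
  have hk := coprime_ker hα2 hp hp2
  have hinj : ∀ r ∈ R, ∀ y ∈ lft p α (Z r) ⊔ lft p α (Z (-r)), α y = 1 → y = 1 := by
    intro r hr y hy h1
    obtain ⟨e⟩ := sl r hr
    exact inj_lift hp2 hαc hα2 (Nodes.ClsMap.isPGroup_Z C hr)
      (Nodes.ClsMap.isPGroup_Z C (Nodes.ClsMap.neg_mem C hr)) hF e hy h1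
  obtain ⟨zM, CM, hzM⟩ := Nodes.ClsLift.cls_lift hαc hk hα C hn hinj
  refine ⟨zM, CM, hzM, ?_⟩
  intro m hm hm1
  -- the members of `M`
  have slM : ∀ r ∈ R, Nonempty (SpecialLinearGroup (Fin 2) F ≃* ↥(lft p α (Z r) ⊔ lft p α (Z (-r)))) := by
    intro r hr
    obtain ⟨e⟩ := sl r hr
    have hZr := Nodes.ClsMap.isPGroup_Z C hr
    have hZr' := Nodes.ClsMap.isPGroup_Z C (Nodes.ClsMap.neg_mem C hr)
    have hmap : (lft p α (Z r) ⊔ lft p α (Z (-r))).map α = Z r ⊔ Z (-r) := by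
      rw [Subgroup.map_sup, map_lft hαc hk hα hZr, map_lft hαc hk hα hZr']
    let g : ↥(lft p α (Z r) ⊔ lft p α (Z (-r))) →* L := α.comp (Subgroup.subtype _)
    have hg : Function.Injective g := by
      rw [injective_iff_map_eq_one]
      intro y hy
      exact Subtype.ext (hinj r hr y.1 y.2 hy)
    have hr' : g.range = Z r ⊔ Z (-r) := by
      rw [MonoidHom.range_comp, Subgroup.range_subtype, hmap]
    exact ⟨(e.trans (MulEquiv.subgroupCongr hr'.symm)).trans (MonoidHom.ofInjective hg).symm⟩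
  -- the image in `N`
  have CN := Nodes.ClsMap.cls_map_of_ker_le_center CM φ hφc
  have hGN : G1 cs h (fun x => (lft p α (X x)).map φ) = ⊤ := by
    rw [← G1_map, hM, Subgroup.map_top_of_surjective φ hφ]
  have hz0 : φ m ∈ Subgroup.closure ((fun x => φ (zM x)) '' R) := by
    have h1 := Subgroup.mem_map_of_mem φ hm
    rw [MonoidHom.map_closure, ← Set.image_comp] at h1
    exact h1
  obtain ⟨r₀, hr₀, hz₀⟩ := ClsFrame.exists_z_ne hz0 hm1
  have hz1 : ∀ r ∈ R, φ (zM r) ≠ 1 := fun r hr => ClsFrame.z_ne CN tr hr₀ hz₀ hr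
  refine frame_of_cls CN tr hp hp2 hGN ho hc ?_ hz0 hm1
  intro r hr
  obtain ⟨e⟩ := slM r hr
  let g : SpecialLinearGroup (Fin 2) F →* N := (φ.comp (Subgroup.subtype _)).comp e.toMonoidHom
  have hg1 : ∀ s, g s = φ ((e s : ↥(lft p α (Z r) ⊔ lft p α (Z (-r)))) : M) := fun _ => rfl
  have hg : Function.Injective g := by
    rw [injective_iff_map_eq_one]
    intro s hs
    -- `s` is central, hence `± 1`
    have h1 : ((e s : ↥(lft p α (Z r) ⊔ lft p α (Z (-r)))) : M) ∈ Subgroup.center M := hφc hs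
    have h2 : s ∈ Subgroup.center (SpecialLinearGroup (Fin 2) F) := by
      rw [Subgroup.mem_center_iff]
      intro t
      apply e.injective
      apply Subtype.ext
      rw [map_mul, map_mul]
      exact Subgroup.mem_center_iff.1 h1 _
    have h3 : s = 1 ∨ s = -1 := CovTwo.mem_center_sl ho h2
    rcases h3 with h3 | h3
    · exact h3
    · exfalso
      have h4 : (e s : ↥(lft p α (Z r) ⊔ lft p α (Z (-r)))) = ⟨zM r, CM.z_mem r hr⟩ := by
        have h5 : zM r ≠ 1 := fun h6 => hz1 r hr (by rw [h6, map_one])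
        have h6 := Lib.PSL2Inv.sq_eq_one hF (x := e.symm ⟨zM r, CM.z_mem r hr⟩) (by
          rw [← map_mul]
          have : (⟨zM r, CM.z_mem r hr⟩ * ⟨zM r, CM.z_mem r hr⟩ : ↥(lft p α (Z r) ⊔ lft p α (Z (-r)))) = 1 :=
            Subtype.ext (CM.z_sq r hr)
          rw [this, map_one])
        rcases h6 with h6 | h6
        · exfalso
          apply h5
          have h7 : (⟨zM r, CM.z_mem r hr⟩ : ↥(lft p α (Z r) ⊔ lft p α (Z (-r)))) = 1 := by
            rw [← e.apply_symm_apply ⟨zM r, CM.z_mem r hr⟩, h6, map_one]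
          exact congrArg Subtype.val h7
        · rw [h3, ← h6, e.apply_symm_apply]
      apply hz1 r hr
      rw [hg1, h4] at hs
      exact hs
  have hr' : g.range = (lft p α (Z r)).map φ ⊔ (lft p α (Z (-r))).map φ := by
    rw [← Subgroup.map_sup, MonoidHom.range_comp, MonoidHom.range_eq_top.2 e.surjective]
    rw [← MonoidHom.range_eq_map, MonoidHom.range_comp, Subgroup.range_subtype]
  exact ⟨(MonoidHom.ofInjective hg).trans (MulEquiv.subgroupCongr hr')⟩

/-- **Frames in covers, second form**: `z₀ = φ (Th t)`, `t ^ 2 = 1`, for a torus parametrisation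
`Th : ∏ Fᵢ^× →* M` with `Th (mulSingle i (-1)) = s' i (-1)`, `s' i : SL(2, Fᵢ) →* M`. -/
theorem frame_of_cover {Fi : I → Type} [∀ i, Field (Fi i)] (s' : ∀ i, SpecialLinearGroup (Fin 2) (Fi i) →* M)
    (Th : (∀ i, (Fi i)ˣ) →* M) (hTh : ∀ i, Th (Pi.mulSingle i (-1)) = s' i (-1))
    (hup : ∀ i, s' i (InvClosure.u1 (Fi i)) ∈ lft p α (X (sr i)))
    (hlo : ∀ i, s' i (InvClosure.l1 (Fi i)) ∈ lft p α (X (-sr i)))
    (hw : ∀ i, ∃ t ∈ T, α (s' i (InvClosure.w1 (Fi i))) = t * n i)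
    (lnk : ∀ i, ∃ r ∈ R, r ≠ sr i ∧ r ≠ -sr i ∧ form cs h (sr i) r ≠ 0)
    {t : ∀ i, (Fi i)ˣ} (ht : t ^ 2 = 1) (h1 : φ (Th t) ≠ 1) : Nonempty (Frame3 N (φ (Th t))) := by
  have hn : ∃ nM : I → M, ∀ i, α (nM i) = n i := ⟨fun i => (hα (n i)).choose, fun i => (hα (n i)).choose_spec⟩
  obtain ⟨nM, hn⟩ := hn
  obtain ⟨zM, CM, -, hfr⟩ := frame_of_mem C tr hp hp2 ho hc sl hα hαc hα2 hM hφ hφc hn
  refine hfr _ ?_ h1
  refine InvClosure.pm_mem Th (fun i => ?_) ht
  rw [hTh]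
  refine InvClosure.neg_one_mem CM (s' i) (hup i) (hlo i) ?_ (lnk i)
  obtain ⟨t, ht, e⟩ := hw i
  refine ⟨s' i (InvClosure.w1 (Fi i)) * (nM i)⁻¹, ?_, by group⟩
  rw [Subgroup.mem_comap, map_mul, map_inv, e, hn, mul_inv_cancel_right]
  exact ht

end Main

end Cov

end Cfsg.Agent.OddHalf.NI3.Fr

end

-- merged: Cfsg.Agent.OddHalf.NI3.Fr.Exc
section

/-!
# (T'_3) for `E₇(3)` (port of NI/ExcEnd)
-/

set_option autoImplicit false
set_option linter.unusedSectionVars false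

namespace Cfsg.Agent.OddHalf.NI3.Fr

open Cfsg.Agent.OddHalf.NI Cfsg.Agent.OddHalf.NI.ExcEnd

open CoxeterSystem Cfsg.Agent.ChevalleyStructure.CoxeterGeom Cfsg.Agent.Tits.Roots Cfsg.Agent.Tits.Core
  Cfsg.Agent.Tits.RootComb Cfsg.Agent.Nodes.Comb Cfsg.Agent.Nodes.Reps Cfsg.Agent.Nodes.BNOf
  Cfsg.Agent.Nodes.RGDLib Cfsg.Agent.Nodes.Chart Cfsg.Agent.Nodes.Coroot Cfsg.Agent.Nodes.ClsInv
  Cfsg.Agent.Nodes.KindBase Cfsg.Agent.Nodes.KindChev Cfsg.Agent.Nodes.ChevCls Cfsg.Agent.Nodes.ChevChart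
open Cfsg.Lie Cfsg.Agent.ChevalleyStructure Cfsg.Agent.ChevalleyStructure.Elts
  Cfsg.Agent.ChevalleyStructure.NPerm Cfsg.Agent.ChevalleyStructure.CoxeterGeomTypes Cfsg.Agent.Nodes.RGDChev
  Cfsg.Agent.KFacts.RgdChevCoord Cfsg.Agent.OddHalf.NI.ModelChev
open Cfsg.Agent.FixBN.FieldRGD (uu vv dd ww)
open Subgroup (center)
open scoped MatrixGroups

universe u v


section Cover

variable {N : Type v} [Group N]

/-- The frame, if the solutions of `th t = 1` are `± 1`. -/
theorem exc_frame_of {D : ChevalleyDatum} {l : ℕ} {M : CoxeterMatrix (Fin l)} (hp : IsType D l M) {K : Type} [Field K]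
    [Fintype K] (ho : Odd (Fintype.card K)) (hc : Fintype.card K = 3) {f : ℕ} {Nn : ℤ} {d : Fin l → ℤ}
    {fr cf : Fin f → Fin l → ℤ} {idx : Fin f → ℕ} (T : KD D l f Nn d fr cf idx) (k₀ : Fin f)
    (hd : ∀ i, 0 < d i ∧ 2 * d i ≤ Nn)
    (hL : ∀ s < D.nroots, (∀ i, vec D l s i = fr k₀ i) ∨ (∀ i, vec D l s i = -fr k₀ i) ∨
      |∑ i, vec D l s i * cf k₀ i| ≤ 1) (hZ : Subgroup.center ↥(D.group K) = ⊥)
    {i₀ j₀ : Fin l} (hij : cartanOf D l i₀ j₀ = -1) (hi₀ : 2 * d i₀ = Nn)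
    (hlnk : ∀ i, ∃ j, j ≠ i ∧ cartanOf D l i j ≠ 0 ∧ 2 * d j = Nn)
    (hker : ∀ t : Fin l → Kˣ, th hp t = 1 → ∀ i, t i ^ 2 = 1)
    {N : Type v} [Group N] [Finite N] (hN : commutator N = ⊤) (h2 : IsPGroup 2 ↥(center N))
    (e : N ⧸ center N ≃* ↥(D.group K)) {z : N} (hz : z ∈ center N) (hz1 : z ≠ 1) : Nonempty (Frame3 N z) := by
  obtain ⟨p, hpp, hpc, hp2⟩ := exists_char K ho
  have : Fact p.Prime := ⟨hpp⟩
  have : Finite M.Group := finite_W hp M.toCoxeterSystem
  let _ : Fintype M.Group := Fintype.ofFinite _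
  have R := rgd (K := K) hp M.toCoxeterSystem p
  have C := Nodes.ChevCls.cls hp (K := K) M.toCoxeterSystem p T k₀ hd hL hZ
  have hsur := cov_surjective e
  have hck : (cov e).ker ≤ center N := (ker_cov e).le
  have h2' : IsPGroup 2 (cov e).ker := by rw [ker_cov]; exact h2
  obtain ⟨s', θ', h3, h4, h5, h6, h7, h8, -⟩ := Mult.mult hp2 R (G1_eq_top hp M.toCoxeterSystem) (coord hp) (th hp)
    (th_dg hp) hsur hck h2' hN
  have hze : cov e z = 1 := by
    rw [← MonoidHom.mem_ker, ker_cov]; exact hz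
  have h9 : z ∈ θ'.range := by
    rw [h6, Subgroup.mem_comap, hze]
    exact one_mem _
  obtain ⟨t, rfl⟩ := h9
  have ht : th hp t = 1 := by
    rw [← h5]
    exact hze
  have hw : ∀ i, ∃ t ∈ TT D K, cov e (s' i (InvClosure.w1 K)) = t * nc hp K i := by
    intro i
    refine ⟨1, one_mem _, ?_⟩
    have e1 : cov e (s' i (InvClosure.w1 K)) = sl hp i (InvClosure.w1 K) := DFunLike.congr_fun (h3 i) _
    have e2 : (InvClosure.w1 K : SL(2, K)) = ww 1 one_ne_zero := by
      apply Subtype.ext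
      show !![(0 : K), 1; -1, 0] = !![0, 1; -(1 : K)⁻¹, 0]
      rw [inv_one]
    rw [e1, e2, sl_ww, one_mul]
  exact Fr.frame_of_cover (Fi := fun _ => K) C
    (fun r hr s hs => by
      obtain ⟨w, hw⟩ := T.trans (cs := M.toCoxeterSystem) (h := hp.isCartan) hp hr hs
      exact ⟨w, hw.symm⟩) hpp hp2 ho hc (fun r hr => slEquiv hp (K := K) p T hij hi₀ hr) hsur hck h2' h8
    (φ := MonoidHom.id N) (fun x => ⟨x, rfl⟩) (by rw [MonoidHom.ker_id]; exact bot_le) s' θ'
    (fun i => by rw [h4, Mult.dg_neg_one])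
    (fun i => by
      have e1 := h7.up i
      have e2 : s' i (InvClosure.u1 K) ∈ Set.range fun a : K => s' i (Mult.up a) := ⟨1, rfl⟩
      rw [← e1] at e2
      exact e2)
    (fun i => by
      have e1 := h7.lo i
      have e2 : s' i (InvClosure.l1 K) ∈ Set.range fun a : K => s' i (Mult.lo a) := ⟨-1, rfl⟩
      rw [← e1] at e2
      exact e2)
    hw
    (fun i => by
      obtain ⟨j, hji, hj, hdj⟩ := hlnk i
      have hne : (sr j : Fin l → ℤ) ≠ sr i := by
        intro h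
        have := congrFun h j
        rw [sr_self, sr_ne hji] at this
        norm_num at this
      have hne' : (sr j : Fin l → ℤ) ≠ -sr i := by
        intro h
        have := congrFun h j
        rw [sr_self, Pi.neg_apply, sr_ne hji] at this
        norm_num at this
      refine ⟨sr j, ⟨isRoot_sr _ _ j, ?_⟩, hne, hne', ?_⟩
      · have := qf_root M.toCoxeterSystem hp.isCartan T.hd 1 j
        rw [map_one, Module.End.one_apply] at this
        rw [this, hdj]
      · intro h0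
        have h10 := two_form_cpr M.toCoxeterSystem hp.isCartan (sr j) (isRoot_sr M.toCoxeterSystem hp.isCartan i)
        rw [form_comm, h0, mul_zero] at h10
        have h11 := form_pos M.toCoxeterSystem hp.isCartan (isRoot_sr M.toCoxeterSystem hp.isCartan i).ne_zero
        have h12 : cpr M.toCoxeterSystem hp.isCartan (sr j) (sr i) = 0 := by
          rcases mul_eq_zero.1 h10.symm with h | h
          · exact h
          · exact absurd h h11.ne'
        rw [cpr_sr] at h12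
        apply hj
        have h13 := pairing_single (cartanOf D l) i j 1
        rw [mul_one] at h13
        rw [← h13]
        exact h12)
    (t := t) (funext fun i => hker t ht i) hz1

end Cover

section Literal

variable {F : Type} [Field F] [Fintype F] (ho : Odd (Fintype.card F)) {N : Type v} [Group N] [Finite N]
  (hq : IsQuasisimple N) (h2 : IsPGroup 2 ↥(center N)) {z : N} (hz : z ∈ center N) (hz2 : orderOf z = 2)

include ho hq h2 hz hz2

/-- **Type `E7`.** -/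
theorem frame_E7 (hc : Fintype.card F = 3) (e : N ⧸ center N ≃* ↥(chevE7.group F)) : Nonempty (Frame3 N z) := by
  obtain ⟨p, hpp, hpc, hp2⟩ := exists_char F ho
  have : Fact p.Prime := ⟨hpp⟩
  refine exc_frame_of Nodes.KindE.isType7 ho hc Nodes.KindE.kd7 0 (fun _ => ⟨by norm_num, by norm_num⟩) long7
    (center_of_mem (by simp)) (i₀ := 0) (j₀ := 2) (by decide +kernel) (by norm_num) ?_
    (fun _ h i => th_ker_E7 h i) (perf hq) h2 e hz ?_
  · intro i
    have h : ∀ i : Fin 7, ∃ j, j ≠ i ∧ cartanOf chevE7 7 i j ≠ 0 := by decide +kernel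
    obtain ⟨j, h3, h4⟩ := h i
    exact ⟨j, h3, h4, by norm_num⟩
  · rintro rfl
    rw [orderOf_one] at hz2
    norm_num at hz2

end Literal

end Cfsg.Agent.OddHalf.NI3.Fr

end

-- merged: Cfsg.Agent.OddHalf.NI3.Fr.Lin
section

/-!
# (T'_3) for `PSL_n(3)`, `PSp_{2m}(3)`, `PSU_n(3)` (port of the rows of node NI)
-/

set_option autoImplicit false

namespace Cfsg.Agent.OddHalf.NI3.Fr

open Cfsg.Agent.OddHalf.NI

universe u v

section SL

open Matrix Subgroup Cfsg
open Blocks (negOne)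
open Cfsg.Agent.OddHalf.NI.FrameSL

variable {F : Type} [Field F] {m : ℕ}

/-- **(T') for type `A_n`** : `φ : SL_n(F) → N` surjective with central kernel, `z` an even central involution of `N`:
there is a frame for `z`. -/
theorem frame_sl [Fintype F] (hodd : Odd (Fintype.card F)) (h3 : Fintype.card F = 3) {n : ℕ} (hn : 3 ≤ n)
    {N : Type*} [Group N] (φ : Matrix.SpecialLinearGroup (Fin n) F →* N) (hs : Function.Surjective φ)
    (hk : φ.ker ≤ center (Matrix.SpecialLinearGroup (Fin n) F)) {z : N} (hz : z ∈ center N) (h8 : Even8 z) :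
    Nonempty (Frame3 N z) := by
  obtain ⟨ho, u, x, hu, -, hux⟩ := h8
  have hz1 : z ≠ 1 := by
    rintro rfl
    rw [orderOf_one] at ho
    omega
  have h2 : (2 : F) ≠ 0 := Blocks.two_ne_zero_of_odd hodd
  obtain ⟨c, hc, rfl, hev⟩ := LinEnd.sl_main φ hs hk (Cfsg.Agent.S0248.result n hn) hz hux (hu ▸ hz) hz1
  obtain ⟨m, hm⟩ := hev h2
  rw [Fintype.card_fin] at hm
  let f : Fin 2 × Fin m ≃ Fin n := finProdFinEquiv.trans (finCongr (by omega))
  let ψ : Matrix.SpecialLinearGroup (Fin 2 × Fin m) F →* N := φ.comp (reidx f).toMonoidHom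
  have hψs : Function.Surjective ψ := hs.comp (reidx f).surjective
  have hψk : ψ.ker ≤ center (Matrix.SpecialLinearGroup (Fin 2 × Fin m) F) := by
    intro g hg
    have h4 : reidx f g ∈ center (Matrix.SpecialLinearGroup (Fin n) F) := hk hg
    rw [mem_center_iff] at h4 ⊢
    intro y
    apply (reidx f).injective
    rw [map_mul, map_mul]
    exact h4 _
  have hcc : reidx f (neg m F) = c := by
    apply Subtype.ext
    change reindex f f (neg m F : Matrix (Fin 2 × Fin m) (Fin 2 × Fin m) F) = (c : Matrix (Fin n) (Fin n) F)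
    rw [neg_coe, hc]
    ext i j
    simp [Matrix.one_apply]
  have hψc : ψ (neg m F) = φ c := by
    change φ (reidx f (neg m F)) = φ c
    rw [hcc]
  have := blocks_frame (blocks (F := F) h2 (show 2 ≤ m by omega)) (by omega) hodd h3 ψ hψs hψk (by rw [hψc]; exact hz1)
  rw [hψc] at this
  exact this

end SL

section PSL

open Matrix Subgroup Cfsg

/-- **(T') for `N / Z(N) ≅ PSL_n(F)`**, `|F| = 3`, `n ≥ 3`. -/
theorem frame_psl {N : Type u} [Group N] [Finite N] (hq : Cfsg.IsQuasisimple N) (h2 : IsPGroup 2 ↥(center N))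
    {F : Type} [Field F] [Fintype F] (hodd : Odd (Fintype.card F)) (h3 : Fintype.card F = 3) {n : ℕ}
    (hn : 3 ≤ n) (e : N ⧸ center N ≃* Matrix.ProjectiveSpecialLinearGroup (Fin n) F) {z : N}
    (hz : z ∈ center N) (h8 : Even8 z) : Nonempty (Frame3 N z) := by
  obtain ⟨φ, hs, hk⟩ := CoverOf.exists_cover hq.1.commutator_eq_top h2 (Cfsg.Agent.S0248.result n hn)
    (ClosedSL.closed hodd (by omega)) e
  exact frame_sl hodd h3 hn φ hs hk hz h8

end PSL

section Sp

open Matrix Subgroup Cfsg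
open Blocks (negOne)
open Cfsg.Agent.OddHalf.NI.FrameSp

variable {F : Type} [Field F] {m : ℕ}

/-- **(T') for type `C_n`** : `φ : Sp_{2m}(F) → N` surjective with central kernel, `z ≠ 1` central in `N`: there is a
frame for `z`. -/
theorem frame_sp [Fintype F] (hodd : Odd (Fintype.card F)) (h3 : Fintype.card F = 3) (hm : 2 ≤ m)
    {N : Type*} [Group N] (φ : symplecticGroup (Fin m) F →* N) (hs : Function.Surjective φ)
    (hk : φ.ker ≤ center (symplecticGroup (Fin m) F)) {z : N} (hz : z ∈ center N) (hz1 : z ≠ 1) :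
    Nonempty (Frame3 N z) := by
  have h2 : (2 : F) ≠ 0 := Blocks.two_ne_zero_of_odd hodd
  obtain ⟨c, rfl⟩ := hs z
  have hc : c ∈ center (symplecticGroup (Fin m) F) :=
    LinEnd.mem_center_of_map φ hk (Cfsg.Agent.S0269.result m (by omega)) hz
  rcases center_cases (by omega) hc with rfl | rfl
  · exact absurd (map_one φ) hz1
  · exact blocks_frame (blocks h2 hm) (by omega) hodd h3 φ hs hk hz1

end Sp

section SUB

open Matrix Subgroup Cfsg Cfsg.Agent.Phan
open Cfsg.Agent.LieClassical.SUBasic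
open Cfsg.Agent.OddHalf.NI.SUBlocks

variable {F : Type*} [Field F] [Fintype F] {q l n m : ℕ}

/-- **(T') for type `²A_n`** : `φ : SU_n(q) → N` surjective with central kernel, `z` an even central involution of
`N`: there is a frame for `z`. -/
theorem frame_su (hF : Fintype.card F = q ^ 2) (hodd : Odd q) (hq : q = 3) (hn : 3 ≤ n) {N : Type*} [Group N]
    (φ : SU n F q →* N) (hs : Function.Surjective φ) (hk : φ.ker ≤ center (SU n F q)) {z : N}
    (hz : z ∈ center N) (h8 : Even8 z) : Nonempty (Frame3 N z) := by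
  obtain ⟨ho, u, x, hu, -, hux⟩ := h8
  have hz1 : z ≠ 1 := by
    rintro rfl
    rw [orderOf_one] at ho
    omega
  have h2 : (2 : F) ≠ 0 := Phan.two_ne_zero_of_odd hF hodd
  obtain ⟨c, hc, rfl, hev⟩ := LinEndSU.su_main hF hn φ hs hk
    (Cfsg.Agent.LieClassical.HermPerfect.commutator_SU_eq_top hF hn (by omega)) hz hux (hu ▸ hz) hz1
  obtain ⟨m, rfl⟩ := (hev h2).two_dvd
  obtain ⟨K, _, _, hK⟩ := Cfsg.Agent.S0280.exists_field hF
  obtain ⟨σ⟩ := Cfsg.Agent.S0281.result hF hK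
  have hcc : c = neg m F hF := mat_inj (by rw [mat_neg]; exact hc)
  have hoddK : Odd (Fintype.card K) := by rw [hK]; exact hodd
  rw [hcc] at hz1 ⊢
  exact blocks_frame (blocks hF hodd (Blocks.two_ne_zero_of_odd hoddK) σ.symm (by omega)) (by omega) hoddK
    (by rw [hK]; exact hq) φ hs hk hz1

end SUB

section PSU

open Subgroup Cfsg

/-- **(T') for `N / Z(N) ≅ PSU_n(q)`**, `q = 3`, `n ≥ 3`, `SU_n(q)` without perfect central 2-extension. -/
theorem frame_psu {N : Type u} [Group N] [Finite N] (hq : Cfsg.IsQuasisimple N) (h2 : IsPGroup 2 ↥(center N))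
    {F : Type v} [Field F] [Fintype F] {q n : ℕ} (hF : Fintype.card F = q ^ 2) (hodd : Odd q) (h3 : q = 3)
    (hn : 3 ≤ n) (hcl : CoverOf.Closed2.{max u v, v} ↥(SU n F q)) (e : N ⧸ center N ≃* PSU n F q) {z : N}
    (hz : z ∈ center N) (h8 : Even8 z) : Nonempty (Frame3 N z) := by
  obtain ⟨φ, hs, hk⟩ := CoverOf.exists_cover hq.1.commutator_eq_top h2
    (Cfsg.Agent.LieClassical.HermPerfect.commutator_SU_eq_top hF hn (by omega)) hcl e
  exact frame_su hF hodd h3 hn φ hs hk hz h8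

end PSU

section SUO

open Subgroup
open Matrix Cfsg Cfsg.Agent.Phan
set_option linter.unusedSectionVars false
set_option linter.unusedVariables false
open Cfsg.Agent.LieClassical.GUOrder

variable {F : Type*} [Field F] [Fintype F] {q : ℕ}


open Cfsg.Agent.OddHalf.NI.SUOdd

/-- **`Clo (SU_k) → Clo (SU_{k+1})`, `k` even.** -/
theorem clo_succ3 (hF : Fintype.card F = q ^ 2) (ho : Odd (Fintype.card F)) (hq : q = 3) {k : ℕ} (hk : Even k)
    (hk2 : 3 ≤ k) (h : Clo.{u} (SU k F q)) : Clo.{u} (SU (k + 1) F q) := by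
  intro E _ _ f hE hf hc h2
  rw [← MonoidHom.ker_eq_bot_iff]
  obtain ⟨n, rfl⟩ : ∃ n, k = n + 1 := ⟨k - 1, by omega⟩
  -- a generator of the group of norm one scalars
  have hcyc : IsCyclic (powMonoidHom (q + 1) : Fˣ →* Fˣ).ker := inferInstance
  obtain ⟨⟨c, hc1⟩, hgen⟩ := hcyc.exists_generator
  have hcF : (c : F) ^ (q + 1) = 1 := by
    have h := MonoidHom.mem_ker.1 hc1
    rw [powMonoidHom_apply] at h
    rw [← Units.val_pow_eq_pow_val, h, Units.val_one]
  refine ker_eq_bot_of_index hf hE hc h2 (H := stab hF (n + 1)) (L := (io hF (n + 1)).range)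
    (odd_index hF ho hk (by omega)) (range_io_le hF _) ?_ (h := dia hF n c hcF) ⟨c, hcF, dia_e0 hF n _ hcF⟩ ?_
    (comm_range hF (LieClassical.HermPerfect.commutator_SU_eq_top hF hk2 (by omega))) (fun A hA hm => h.sub hc h2 (ext_injective hF _) A hA hm)
  · rintro x ⟨d, hd, hx⟩ l hl
    rw [mem_range_io] at hl ⊢
    have hx' : mat x⁻¹ *ᵥ (d • SUOdd.e0 (n + 1) F) = SUOdd.e0 (n + 1) F := by
      rw [← hx, Matrix.mulVec_mulVec, mat_inv_mul, Matrix.one_mulVec]
    have hd0 : d ≠ 0 := by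
      rintro rfl
      rw [zero_pow (Nat.succ_ne_zero q)] at hd
      exact zero_ne_one hd
    have hx2 : mat x⁻¹ *ᵥ SUOdd.e0 (n + 1) F = d⁻¹ • SUOdd.e0 (n + 1) F := by
      rw [Matrix.mulVec_smul] at hx'
      rw [← hx', smul_smul, inv_mul_cancel₀ hd0, one_smul, hx']
    rw [mat_mul, mat_mul, ← Matrix.mulVec_mulVec, ← Matrix.mulVec_mulVec, hx2, Matrix.mulVec_smul,
      Matrix.mulVec_smul, hl, hx, smul_smul, inv_mul_cancel₀ hd0, one_smul]
  · rintro x ⟨d, hd, hx⟩
    have hd0 : d ≠ 0 := by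
      rintro rfl
      rw [zero_pow (Nat.succ_ne_zero q)] at hd
      exact zero_ne_one hd
    obtain ⟨k, hk⟩ := mem_zpowers_iff.1 (hgen ⟨Units.mk0 d hd0, by
      rw [MonoidHom.mem_ker, powMonoidHom_apply]
      apply Units.ext
      simpa using hd⟩)
    have hk' : ((c ^ k : Fˣ) : F) = d := by
      have := congrArg (fun z => ((Subtype.val z : Fˣ) : F)) hk
      simpa using this
    have hpow : ∀ j : ℤ, mat (dia hF n c hcF ^ j) *ᵥ SUOdd.e0 (n + 1) F = ((c ^ j : Fˣ) : F) • SUOdd.e0 (n + 1) F := by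
      have hn : ∀ j : ℕ, mat (dia hF n c hcF ^ j) *ᵥ SUOdd.e0 (n + 1) F = ((c ^ j : Fˣ) : F) • SUOdd.e0 (n + 1) F := by
        intro j
        induction j with
        | zero => rw [pow_zero, pow_zero, mat_one, Matrix.one_mulVec, Units.val_one, one_smul]
        | succ j ih =>
          rw [pow_succ, pow_succ, mat_mul, ← Matrix.mulVec_mulVec, dia_e0, Matrix.mulVec_smul, ih, smul_smul,
            Units.val_mul, mul_comm]
      have hinv : ∀ (g : SU (n + 1 + 1) F q) (d : Fˣ), mat g *ᵥ SUOdd.e0 (n + 1) F = (d : F) • SUOdd.e0 (n + 1) F →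
          mat g⁻¹ *ᵥ SUOdd.e0 (n + 1) F = ((d⁻¹ : Fˣ) : F) • SUOdd.e0 (n + 1) F := by
        intro g d hg
        have h1 : mat g⁻¹ *ᵥ (mat g *ᵥ SUOdd.e0 (n + 1) F) = SUOdd.e0 (n + 1) F := by
          rw [Matrix.mulVec_mulVec, mat_inv_mul, Matrix.one_mulVec]
        rw [hg, Matrix.mulVec_smul] at h1
        rw [← h1, smul_smul, Units.inv_mul, one_smul, h1]
      intro j
      cases j with
      | ofNat j => rw [Int.ofNat_eq_natCast, zpow_natCast, zpow_natCast]; exact hn j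
      | negSucc j => rw [zpow_negSucc, zpow_negSucc]; exact hinv _ _ (hn _)
    refine ⟨-k, ?_⟩
    rw [mem_range_io, mat_mul, ← Matrix.mulVec_mulVec, hpow, Matrix.mulVec_smul, hx, smul_smul, ← hk',
      ← Units.val_mul, ← _root_.zpow_add, neg_add_cancel, zpow_zero, Units.val_one, one_smul]


end SUO

end Cfsg.Agent.OddHalf.NI3.Fr

end

-- merged: Cfsg.Agent.OddHalf.NI3.Fr.Omega
section

/-!
# (T'_3) for `PΩ(V)` over the field with three elements (port of NI/OmegaSheet)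
-/

set_option autoImplicit false
set_option linter.unusedSectionVars false
set_option linter.dupNamespace false

namespace Cfsg.Agent.OddHalf.NI3.Fr

open Cfsg.Agent.OddHalf.NI Cfsg.Agent.OddHalf.NI.OmegaSheet

open CoxeterSystem Cfsg.Agent.ChevalleyStructure.CoxeterGeom Cfsg.Agent.Tits.Roots Cfsg.Agent.Tits.Core
  Cfsg.Agent.Tits.RootComb Cfsg.Agent.Nodes.Comb Cfsg.Agent.Nodes.Reps Cfsg.Agent.Nodes.BNOf
  Cfsg.Agent.Nodes.RGDLib Cfsg.Agent.Nodes.Chart Cfsg.Agent.Nodes.RGDLift Cfsg.Agent.Nodes.Bruhat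
open Matrix (SpecialLinearGroup)

section Cover

variable {L : Type*} [Group L] {p : ℕ} {F : Type} [Field F] [Fintype F] (S : Sheet L p F)
  (hp : p.Prime) (hp2 : p ≠ 2) (ho : Odd (Fintype.card F)) (hc : Fintype.card F = 3)
  {M N : Type*} [Group M] [Finite M] [Group N] {α : M →* L} (hα : Function.Surjective α)
  (hαc : α.ker ≤ Subgroup.center M) (hα2 : IsPGroup 2 α.ker) (hM : commutator M = ⊤)
  {φ : M →* N} (hφ : Function.Surjective φ) (hφc : φ.ker ≤ Subgroup.center M)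

include S

include hp hp2 ho hc hα hαc hα2 hM hφ hφc

/-- the common part: `m` over the torus, all solutions of square one -/
theorem frame_of_T {m : M} (hm : α m ∈ S.T) (hk : ∀ t, S.θ t = α m → t ^ 2 = 1) (h1 : φ m ≠ 1) :
    Nonempty (Frame3 N (φ m)) := by
  have : Fact p.Prime := ⟨hp⟩
  obtain ⟨s', θ', e1, e2, e3, e4, e5, e6, -⟩ := Mult.mult hp2 S.cls.rgd S.gen S.coord S.θ S.hθ hα hαc hα2 hM
  have hm' : m ∈ θ'.range := by
    rw [e4]
    exact hm
  obtain ⟨t, rfl⟩ := hm'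
  have ht : t ^ 2 = 1 := hk t (by rw [← e3]; rfl)
  refine Fr.frame_of_cover S.cls S.tr hp hp2 ho hc S.sl hα hαc hα2 e6 hφ hφc s' θ' ?_ ?_ ?_ ?_ S.lnk ht h1
  · intro i
    rw [e2, Mult.dg_neg_one]
  · intro i
    exact e5.mem_up i 1
  · intro i
    exact e5.mem_lo i (-1)
  · intro i
    have h2 : α (s' i (InvClosure.w1 (S.Fi i))) = S.s i (Mult.nn 1) := by
      rw [← e1 i, MonoidHom.comp_apply]
      congr 2
    have h3 := (Mult.rp_nn S.cls.rgd S.coord i 1).mul (rp_simple S.cs S.cls.rgd.nsys i).inv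
    rw [mul_inv_cancel] at h3
    exact ⟨_, h3.mem_of_one, by rw [h2]; group⟩

/-- `m` in the kernel of `M → L` -/
theorem frame_ker {m : M} (hm : α m = 1) (h1 : φ m ≠ 1) : Nonempty (Frame3 N (φ m)) :=
  frame_of_T S hp hp2 ho hc hα hαc hα2 hM hφ hφc (by rw [hm]; exact one_mem _)
    (fun t ht => S.k1 t (by rw [ht, hm])) h1

/-- `m` in the centre of `M` -/
theorem frame_center (k2 : ∀ t, S.θ t ∈ Subgroup.center L → t ^ 2 = 1) {m : M}
    (hm : m ∈ Subgroup.center M) (h1 : φ m ≠ 1) : Nonempty (Frame3 N (φ m)) := by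
  have h2 : α m ∈ Subgroup.center L := by
    rw [Subgroup.mem_center_iff]
    intro y
    obtain ⟨x, rfl⟩ := hα y
    rw [← map_mul, ← map_mul, Subgroup.mem_center_iff.1 hm x]
  exact frame_of_T S hp hp2 ho hc hα hαc hα2 hM hφ hφc (center_le_T S h2)
    (fun t ht => k2 t (by rw [ht]; exact h2)) h1

end Cover

/-! ### The assembly for `PΩ(V)` -/

section POmega

open QuadraticMap
open Cfsg.Agent.LieClassical Cfsg.Agent.LieClassical.OrthCore Cfsg.Agent.LieClassical.OrthTrans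
  Cfsg.Agent.TitsThree.KSideO

variable {ι : Type} [Fintype ι] [DecidableEq ι] {F : Type} [Field F] [Fintype F] {Q : QuadraticForm F (ι → F)}

/-- **(T') for `PΩ(V)`.** -/
theorem frame_POmega (hG : Good Q) {p : ℕ} (hp : p.Prime) (hp2 : p ≠ 2) (h2 : (2 : F) ≠ 0)
    (ho : Odd (Fintype.card F)) (hc : Fintype.card F = 3) (S : Sheet ↥(E Q) p F)
    (k2 : Fintype.card ι % 4 ≠ 2 → ∀ t, S.θ t ∈ Subgroup.center ↥(E Q) → t ^ 2 = 1)
    {N : Type*} [Group N] [Finite N] (hN : commutator N = ⊤) (hZ : IsPGroup 2 ↥(Subgroup.center N))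
    (e : N ⧸ Subgroup.center N ≃* Cfsg.POmega F ⇑Q) {z : N} (hz : z ∈ Subgroup.center N) (h8 : Even8 z) :
    Nonempty (Frame3 N z) := by
  have hz1 : z ≠ 1 := by
    rintro rfl
    have := h8.1
    rw [orderOf_one] at this
    omega
  -- the two maps to `PΩ`
  obtain ⟨f, hf⟩ : ∃ f : N →* Cfsg.POmega F ⇑Q, f = e.toMonoidHom.comp (QuotientGroup.mk' _) := ⟨_, rfl⟩
  have fs : Function.Surjective f := by
    rw [hf]
    exact e.surjective.comp (QuotientGroup.mk'_surjective _)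
  have fk : f.ker = Subgroup.center N := by
    rw [hf]
    ext x
    rw [MonoidHom.mem_ker]
    change e (QuotientGroup.mk x) = 1 ↔ _
    rw [map_eq_one_iff e e.injective, QuotientGroup.eq_one_iff]
  have gs := toPOmega_surjective hG
  have gk : (toPOmega hG).ker ≤ Subgroup.center ↥(E Q) := fun x hx => center_of_toPOmega hG hx
  have hE : commutator ↥(E Q) = ⊤ := by
    apply Subgroup.map_injective (E Q).subtype_injective
    rw [commutator_def, Subgroup.map_commutator, ← MonoidHom.range_eq_map, Subgroup.range_subtype]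
    exact hG.E_perfect
  have hfin : Finite ((ι → F) ≃ₗ[F] (ι → F)) :=
    Finite.of_injective (fun g : (ι → F) ≃ₗ[F] (ι → F) => (g : (ι → F) → (ι → F))) DFunLike.coe_injective
  have hM := Fibre.perfect (f := f) (g := toPOmega hG) fs gs fk.le gk hN
  have hφ := Fibre.toN_surjective (f := f) (g := toPOmega hG) gs hN
  have hα := Fibre.toL_surjective (f := f) (g := toPOmega hG) fs hE
  have hφc := Fibre.ker_toN (f := f) (g := toPOmega hG) fk.le gk
  have hαc := Fibre.ker_toL (f := f) (g := toPOmega hG) fk.le gk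
  have hk2 : IsPGroup 2 (Fibre.toX f (toPOmega hG)).ker := Fibre.isPGroup_ker (by rw [fk]; exact hZ) (ker_two hG)
  have hα2 : IsPGroup 2 (Fibre.toL f (toPOmega hG)).ker := by
    refine hk2.to_le fun m hm => ?_
    rw [MonoidHom.mem_ker]
    change f (Fibre.toN f (toPOmega hG) m) = 1
    rw [Fibre.comm, MonoidHom.mem_ker.1 hm, map_one]
  by_cases h4 : Fintype.card ι % 4 = 2
  · -- `D_odd`
    have hmem := OmegaEnd.mem_map_ker (F := F) h2 Q ?_ ?_ ?_ ?_ (Fibre.toN f (toPOmega hG)) hφ hφc hM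
      ((toOmega hG).toMonoidHom.comp (Fibre.toL f (toPOmega hG))) ((toOmega hG).surjective.comp hα) hz h8
    · obtain ⟨m, hm, rfl⟩ := hmem
      refine frame_ker S hp hp2 ho hc hα hαc hα2 hM hφ hφc ?_ hz1
      have h3 : toOmega hG (Fibre.toL f (toPOmega hG) m) = 1 := hm
      rwa [map_eq_one_iff _ (toOmega hG).injective] at h3
    · exact LieClassical.OmegaReindex.nondegenerate_of_left _ (fun x hx => hG.nondeg x fun y => hx y)
    · have := hG.dim
      rw [Module.finrank_fintype_fun_eq_card] at this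
      omega
    · exact hG.sing
    · omega
  · -- otherwise
    obtain ⟨m, hm⟩ := hφ z
    have hmc : m ∈ Subgroup.center (Fibre.M f (toPOmega hG)) := by
      refine Fibre.mem_center_of_map fk.le gk ?_
      rw [hm]
      exact MonoidHom.mem_ker.1 (fk.ge hz)
    rw [← hm] at hz1 ⊢
    exact frame_center S hp hp2 ho hc hα hαc hα2 hM hφ hφc (k2 h4) hmc hz1

end POmega

end Cfsg.Agent.OddHalf.NI3.Fr

end

-- merged: Cfsg.Agent.OddHalf.NI3.Fr.OmRows
section

/-!
# (T'_3): the orthogonal rows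

`frame_odd`, `frame_plus`, `frame_minus` : the rows `PΩ_{2m+1}(3)`, `PΩ⁺_{2m}(3)`, `PΩ⁻_{2m+2}(3)`, from the sheets of
helper448 (`NI/OmegaRows.lean`) and helper601 (`NI/OmegaPlusRow.lean`).
-/

set_option autoImplicit false
set_option linter.unusedSectionVars false

namespace Cfsg.Agent.OddHalf.NI3.Fr

open CoxeterSystem Cfsg.Agent.ChevalleyStructure.CoxeterGeom Cfsg.Agent.Tits.Roots Cfsg.Agent.Tits.Core
  Cfsg.Agent.Tits.RootComb Cfsg.Agent.Nodes.Comb Cfsg.Agent.Nodes.Reps Cfsg.Agent.Nodes.BNOf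
  Cfsg.Agent.Nodes.RGDLib Cfsg.Agent.Nodes.Chart
open QuadraticMap
open Matrix (SpecialLinearGroup)
open Cfsg.Agent.LieClassical Cfsg.Agent.LieClassical.OrthCore Cfsg.Agent.LieClassical.OrthTrans
open Cfsg.Agent.LieClassical.OrthSimple Cfsg.Agent.LieClassical.OrthFinite Cfsg.Agent.LieClassical.OrthForms
open Cfsg.Agent.TitsThree Cfsg.Agent.TitsThree.Siegel Cfsg.Agent.TitsThree.SiegelGen
  Cfsg.Agent.TitsThree.WittFrame Cfsg.Agent.TitsThree.WittWeyl Cfsg.Agent.TitsThree.WBridge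
  Cfsg.Agent.TitsThree.KSideO
open Cfsg.Agent.Nodes
open Cfsg.Agent.Nodes.WittRoot (Amb XG ZG PG PG_ne PG_self Mono XG_swap rg rg_eq)
open Cfsg.Agent.Nodes.WittRGD (Tor mem_Tor nn nn_mem)
open Cfsg.Agent.Nodes.TypeC Cfsg.Agent.Nodes.TypeCForm Cfsg.Agent.Nodes.KindBC
open Cfsg.Agent.OddHalf.LongSL.OrthPhi Cfsg.Agent.OddHalf.LongSL.Orth
open Cfsg.Agent.OddHalf.NI Cfsg.Agent.OddHalf.NI.OmegaSheet Cfsg.Agent.OddHalf.NI.OmegaNodes
  Cfsg.Agent.OddHalf.NI.OmegaLast Cfsg.Agent.OddHalf.NI.OmegaTorus Cfsg.Agent.OddHalf.NI.OmegaRows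

universe u

/-- **(T'_3) for `PΩ_{2m+1}(3)`.** -/
theorem frame_odd (F : Type) [Field F] [Fintype F] (m : ℕ) (ho : Odd (Fintype.card F)) (h3 : Fintype.card F = 3)
    (hm : 3 ≤ m) (N : Type u) [Group N] [Finite N] (hN : commutator N = ⊤) (hZ : IsPGroup 2 ↥(Subgroup.center N))
    (e : Nonempty (N ⧸ Subgroup.center N ≃* Cfsg.POmega F (Cfsg.quadFormOdd m F))) (z : N)
    (hz : z ∈ Subgroup.center N) (h8 : Even8 z) : Nonempty (Frame3 N z) := by
  obtain ⟨p, hp, hc, hp2⟩ := OmegaRows.exists_char ho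
  have : Fact p.Prime := ⟨hp⟩
  obtain ⟨e⟩ := e
  rw [← coe_oddForm] at e
  have h2 : (2 : F) ≠ 0 := two_ne hp2
  have hG : Good (oddForm m F) := by
    apply good_of_finite (nondeg_oddForm m F h2)
    rw [Module.finrank_fintype_fun_eq_card, Fintype.card_sum, Fintype.card_sum, Fintype.card_fin,
      Fintype.card_unit]
    omega
  have hA := RGDOrth.amb (wodd m F) h2
  obtain ⟨p0, hp0⟩ : ∃ p0 : (toFrame (wodd m F)).Adm, p0.c ≠ 0 := by
    refine ⟨(embOdd m F).ngt ⟨1, -1 ^ 2, rfl⟩, ?_⟩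
    change (1 : F)⁻¹ * (-1 ^ 2) ≠ 0
    simp
  have hm0 : 0 < m := by omega
  refine Fr.frame_POmega hG hp (fun h => by rw [h] at hp2; exact absurd hp2 (by decide)) h2 ho h3
    (OmegaNodes.sheet (nodeO m) hA hp2 hm hp0 (scalO m hm0) trivial) ?_ hN hZ e hz h8
  intro _ t ht
  exact k2_of (nodeO m) hA hG hm0 (scalO m hm0) (fun _ => trivial) t ht

/-- **(T'_3) for `PΩ⁻_{2m+2}(3)`.** -/
theorem frame_minus (F : Type) [Field F] [Fintype F] (m : ℕ) (a b : F) (ho : Odd (Fintype.card F))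
    (h3 : Fintype.card F = 3) (hm : 3 ≤ m)
    (hab : ∀ z₁ z₂ : F, z₁ ^ 2 + a * z₁ * z₂ + b * z₂ ^ 2 = 0 → z₁ = 0 ∧ z₂ = 0)
    (N : Type u) [Group N] [Finite N] (hN : commutator N = ⊤) (hZ : IsPGroup 2 ↥(Subgroup.center N))
    (e : Nonempty (N ⧸ Subgroup.center N ≃* Cfsg.POmega F (Cfsg.quadFormMinus m F a b))) (z : N)
    (hz : z ∈ Subgroup.center N) (h8 : Even8 z) : Nonempty (Frame3 N z) := by
  obtain ⟨p, hp, hc, hp2⟩ := OmegaRows.exists_char ho
  have : Fact p.Prime := ⟨hp⟩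
  obtain ⟨e⟩ := e
  rw [← coe_minusForm] at e
  have h2 : (2 : F) ≠ 0 := two_ne hp2
  have hcard : Fintype.card ((Fin m ⊕ Fin m) ⊕ Fin 2) = 2 * m + 2 := by
    rw [Fintype.card_sum, Fintype.card_sum, Fintype.card_fin, Fintype.card_fin]
    omega
  have hG : Good (minusForm m F a b) := by
    apply good_of_finite (nondeg_minusForm m F a b hab)
    rw [Module.finrank_fintype_fun_eq_card, hcard]
    omega
  have hA := RGDOrth.amb (wminus m F a b hab) h2
  obtain ⟨p0, hp0⟩ : ∃ p0 : (toFrame (wminus m F a b hab)).Adm, p0.c ≠ 0 := by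
    refine ⟨(embMinus m F a b hab).ngt ⟨(1, 0), -StdData.nf a b (1, 0), rfl⟩, ?_⟩
    change (1 : F)⁻¹ * (-StdData.nf a b (1, 0)) ≠ 0
    simp [StdData.nf]
  have hm0 : 0 < m := by omega
  refine Fr.frame_POmega hG hp (fun h => by rw [h] at hp2; exact absurd hp2 (by decide)) h2 ho h3
    (OmegaNodes.sheet (nodeM m a b hab) hA hp2 hm hp0 (scalM m a b hm0) (Or.inl rfl)) ?_ hN hZ e hz h8
  intro h4 t ht
  rw [hcard] at h4
  have hmo : Odd m := by
    rcases Nat.even_or_odd m with h | h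
    · exfalso
      obtain ⟨k, hk⟩ := h
      omega
    · exact h
  exact k2_of (nodeM m a b hab) hA hG hm0 (scalM m a b hm0) (fun _ => Or.inr hmo) t ht

/-- **(T'_3) for `PΩ⁺_{2m}(3)`.** -/
theorem frame_plus (F : Type) [Field F] [Fintype F] (m : ℕ) (ho : Odd (Fintype.card F)) (hc : Fintype.card F = 3)
    (hm : 4 ≤ m) (N : Type u) [Group N] [Finite N] (hN : commutator N = ⊤) (hZ : IsPGroup 2 ↥(Subgroup.center N))
    (e : Nonempty (N ⧸ Subgroup.center N ≃* Cfsg.POmega F (Cfsg.quadFormPlus m F))) (z : N)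
    (hz : z ∈ Subgroup.center N) (h8 : Even8 z) : Nonempty (Frame3 N z) := by
  obtain ⟨p, hp, hpc, hpo⟩ := OmegaRows.exists_char ho
  have : Fact p.Prime := ⟨hp⟩
  obtain ⟨e⟩ := e
  have hp2 : p ≠ 2 := by rintro rfl; exact absurd hpo (by decide)
  have h2 : (2 : F) ≠ 0 := LongSL.Orth.two_ne hpo
  obtain ⟨n, rfl⟩ : ∃ n, m = n + 2 := ⟨m - 2, by omega⟩
  rw [← coe_plusForm] at e
  refine Fr.frame_POmega (OmegaPlusRow.good_plus F (by omega)) hp hp2 h2 ho hc
    (OmegaPlusRow.sheet F hpo (n := n) (by omega)) ?_ hN hZ e hz h8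
  intro h4 t ht
  refine OmegaPlus.k2 (RGDOrth.wplus (n + 2) F) (OmegaPlusRow.good_plus F (by omega)) ?_ ht
  rw [Fintype.card_sum, Fintype.card_fin] at h4
  rw [Nat.even_iff]
  omega

end Cfsg.Agent.OddHalf.NI3.Fr

end

-- merged: Cfsg.Agent.OddHalf.NI3.Fr.Final
section

/-!
# (T'_3): assembly

`frameFact3 : FrameFact3` : an even central involution of a finite quasisimple group `N` with centre a `2`-group and
`N / Z(N)` of Lie type of rank at least two over the field with three elements lies in a frame with members `SL₂(3)`.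
-/

set_option autoImplicit false

namespace Cfsg.Agent.OddHalf.NI3.Fr

open Subgroup Cfsg Cfsg.Agent.OddHalf.NI
open SUOdd (Clo)
open FrameFactOf (ne_one_of closed_iff_clo)

universe u

/-- **(T'_3).** -/
theorem frameFact3 : FrameFact3.{u} := by
  intro N _ _ hq h2 hX z hz h8
  rcases hX with hX | hX | hX | hX | hX | hX | hX | hX | hX | hX | hX | hX | hX
  · obtain ⟨F, _, _, n, hF, hn, ⟨e⟩⟩ := hX
    exact frame_psl hq h2 (by rw [hF]; decide) hF hn e hz h8
  · obtain ⟨F, _, _, m, hF, hm, ⟨e⟩⟩ := hX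
    classical
    have hodd : Odd (Fintype.card F) := by rw [hF]; decide
    obtain ⟨φ, hs, hk⟩ := CoverOf.exists_cover hq.1.commutator_eq_top h2
      (Cfsg.Agent.S0269.result m (by omega)) (SpClosed.closed2 hodd (by omega)) e
    exact frame_sp hodd hF hm φ hs hk hz (ne_one_of h8)
  · obtain ⟨F, _, _, n, hF, hn, ⟨e⟩⟩ := hX
    have hF' : Fintype.card F = 9 := by simpa using hF
    have hodd : Odd (Fintype.card F) := by rw [hF']; decide
    rcases Nat.eq_or_lt_of_le hn with rfl | hn4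
    · exact (Card81.false_of_noDouble hq.1.commutator_eq_top
        ((KFacts.MulOdd.UThree.noDouble_U33 hF').congr e.symm) hz h8.1).elim
    · have hev : ∀ k, 2 ≤ k → Clo.{u} (SU (2 * k) F 3) := fun k hk =>
        fun E _ _ f hE hf hc h2 => SUClosed.closed_SU hF (by decide) hk hE hf hc h2
      refine frame_psu hq h2 hF (by decide) rfl hn ((closed_iff_clo _).2 ?_) e hz h8
      rcases Nat.even_or_odd n with hn2 | hn2
      · obtain ⟨m, rfl⟩ : ∃ m, n = 2 * m := ⟨n / 2, by have := Nat.even_iff.1 hn2; omega⟩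
        exact hev m (by omega)
      · obtain ⟨k, rfl⟩ := hn2
        exact clo_succ3 hF hodd rfl (even_two_mul k) (by omega) (hev k (by omega))
  · obtain ⟨F, _, _, m, hF, hm, he⟩ := hX
    exact frame_odd F m (by rw [hF]; decide) hF hm N hq.1.commutator_eq_top h2 he z hz h8
  · obtain ⟨F, _, _, m, hF, hm, he⟩ := hX
    exact frame_plus F m (by rw [hF]; decide) hF hm N hq.1.commutator_eq_top h2 he z hz h8
  · obtain ⟨F, _, _, m, a, b, hF, hm, hab, he⟩ := hX
    exact frame_minus F (m - 1) a b (by rw [hF]; decide) hF (by omega) hab N hq.1.commutator_eq_top h2 he z hz h8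
  · obtain ⟨F, _, _, hF, ⟨e⟩⟩ := hX
    exact (ExcEnd.false_G2 (by rw [hF]; decide) hq h2 hz h8.1 e).elim
  · obtain ⟨F, _, _, hF, ⟨e⟩⟩ := hX
    exact (ExcEnd.false_F4 (by rw [hF]; decide) hq h2 hz h8.1 e).elim
  · obtain ⟨F, _, _, hF, ⟨e⟩⟩ := hX
    exact (ExcEnd.false_E6 (by rw [hF]; decide) hq h2 hz h8.1 e).elim
  · obtain ⟨F, _, _, hF, ⟨e⟩⟩ := hX
    exact frame_E7 (by rw [hF]; decide) hq h2 hz h8.1 hF e
  · obtain ⟨F, _, _, hF, ⟨e⟩⟩ := hX
    exact (ExcEnd.false_E8 (by rw [hF]; decide) hq h2 hz h8.1 e).elim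
  · obtain ⟨F, _, _, hF, ⟨e⟩⟩ := hX
    have h3 : IsPrimePow 3 := Nat.prime_three.isPrimePow
    exact (ExcTw.false_TwE6 h3 (by rw [hF]; decide) hq h2 hz h8.1 hF e).elim
  · obtain ⟨F, _, _, hF, ⟨e⟩⟩ := hX
    have h3 : IsPrimePow 3 := Nat.prime_three.isPrimePow
    exact (ExcTw.false_TwD4 h3 (by rw [hF]; decide) hq h2 hz h8.1 hF e).elim

end Cfsg.Agent.OddHalf.NI3.Fr

end
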